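import Groth.Agent.SpSeqLib.AcyclicComplex
import Mathlib.CategoryTheory.Abelian.RightDerived
import Mathlib.CategoryTheory.Abelian.Injective.Extend

/-!
# Right derived functors of a composition with an exact functor to acyclic objects, naturally
-/

set_option autoImplicit false
set_option linter.style.haveILetI false
set_option linter.unusedSectionVars false
set_option backward.isDefEq.respectTransparency false

noncomputable section

universe v v' v'' u u' u''

open CategoryTheory Limits

attribute [local instance] HasDerivedCategory.standard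

namespace AcycCompLib

variable {D : Type u'} [Category.{v'} D] [Abelian D]

/-- An augmented exact cochain complex. -/
structure Aug (Z : D) where
  K : CochainComplex D ℕ
  ε : Z ⟶ K.X 0
  comp : ε ≫ K.d 0 1 = 0
  mono : Mono ε
  exact₀ : (ShortComplex.mk ε (K.d 0 1) comp).Exact
  exact_succ : ∀ n : ℕ, (ShortComplex.mk (K.d n (n + 1)) (K.d (n + 1) (n + 2)) (K.d_comp_d _ _ _)).Exact

theorem exists_lift {Z Y : D} (f : Z ⟶ Y) (A : Aug Z) (J : InjectiveResolution Y) :
    ∃ φ : A.K ⟶ J.cocomplex, A.ε ≫ φ.f 0 = f ≫ J.ι.f 0 := by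
  haveI := A.mono
  let φ₀ : A.K.X 0 ⟶ J.cocomplex.X 0 := Injective.factorThru (f ≫ J.ι.f 0) A.ε
  have h₀ : A.ε ≫ φ₀ = f ≫ J.ι.f 0 := Injective.comp_factorThru _ _
  have hc : A.ε ≫ φ₀ ≫ J.cocomplex.d 0 1 = 0 := by
    rw [reassoc_of% h₀, J.ι_f_zero_comp_complex_d, comp_zero]
  let φ₁ := A.exact₀.descToInjective (φ₀ ≫ J.cocomplex.d 0 1) hc
  have h₁ : φ₀ ≫ J.cocomplex.d 0 1 = A.K.d 0 1 ≫ φ₁ := (A.exact₀.comp_descToInjective _ _).symm
  refine ⟨CochainComplex.mkHom _ _ φ₀ φ₁ h₁ (fun n ⟨g, g', w⟩ =>
    ⟨(A.exact_succ n).descToInjective (g' ≫ J.cocomplex.d (n + 1) (n + 2)) (by simp [reassoc_of% w.symm]),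
      ((A.exact_succ n).comp_descToInjective _ _).symm⟩), ?_⟩
  simpa using h₀

theorem nonempty_homotopy_zero {Z Y : D} (A : Aug Z) (J : InjectiveResolution Y) (f : A.K ⟶ J.cocomplex)
    (comm : A.ε ≫ f.f 0 = 0) : Nonempty (Homotopy f 0) := by
  let h₀ : A.K.X 1 ⟶ J.cocomplex.X 0 := A.exact₀.descToInjective (f.f 0) comm
  have e₀ : A.K.d 0 1 ≫ h₀ = f.f 0 := A.exact₀.comp_descToInjective _ _
  let h₁ : A.K.X 2 ⟶ J.cocomplex.X 1 := (A.exact_succ 0).descToInjective (f.f 1 - h₀ ≫ J.cocomplex.d 0 1)
    (by rw [Preadditive.comp_sub, reassoc_of% e₀, HomologicalComplex.Hom.comm, sub_self])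
  have e₁ : A.K.d 1 2 ≫ h₁ = f.f 1 - h₀ ≫ J.cocomplex.d 0 1 := (A.exact_succ 0).comp_descToInjective _ _
  exact ⟨Homotopy.mkCoinductive _ h₀ (by simpa using e₀.symm) h₁ (by rw [e₁]; abel) (fun n ⟨g, g', w⟩ =>
    ⟨(A.exact_succ (n + 1)).descToInjective (f.f (n + 2) - g' ≫ J.cocomplex.d _ _) (by
      dsimp
      rw [Preadditive.comp_sub, ← HomologicalComplex.Hom.comm, w, Preadditive.add_comp,
        Category.assoc, Category.assoc, HomologicalComplex.d_comp_d, comp_zero, zero_add, sub_self]),
      by
        have e := (A.exact_succ (n + 1)).comp_descToInjective (f.f (n + 2) - g' ≫ J.cocomplex.d _ _) (by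
          dsimp
          rw [Preadditive.comp_sub, ← HomologicalComplex.Hom.comm, w, Preadditive.add_comp,
            Category.assoc, Category.assoc, HomologicalComplex.d_comp_d, comp_zero, zero_add, sub_self])
        rw [e]; abel⟩)⟩

theorem nonempty_homotopy {Z Y : D} (A : Aug Z) (J : InjectiveResolution Y) (f g : A.K ⟶ J.cocomplex)
    (comm : A.ε ≫ f.f 0 = A.ε ≫ g.f 0) : Nonempty (Homotopy f g) :=
  (nonempty_homotopy_zero A J (f - g) (by simp [Preadditive.comp_sub, comm])).map Homotopy.equivSubZero.symm

variable {C : Type u} [Category.{v} C] [Abelian C] {E : Type u''} [Category.{v''} E] [Abelian E]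
  (R : C ⥤ D) [R.Additive] [R.PreservesHomology]

/-- The image of an injective resolution by an exact functor. -/
def augMap {X : C} (I : InjectiveResolution X) : Aug (R.obj X) where
  K := (R.mapHomologicalComplex _).obj I.cocomplex
  ε := R.map (I.ι.f 0)
  comp := (R.map_comp _ _).symm.trans ((congrArg R.map I.ι_f_zero_comp_complex_d).trans (R.map_zero _ _))
  mono := inferInstance
  exact₀ := I.exact₀.map R
  exact_succ n := (I.exact_succ n).map R

variable [HasInjectiveResolutions C] [HasInjectiveResolutions D]

/-- The comparison lift. -/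
def lift (X : C) : (augMap R (injectiveResolution X)).K ⟶ (injectiveResolution (R.obj X)).cocomplex :=
  (exists_lift (𝟙 _) (augMap R (injectiveResolution X)) (injectiveResolution (R.obj X))).choose

theorem lift_comm (X : C) : R.map ((injectiveResolution X).ι.f 0) ≫ (lift R X).f 0 =
    (injectiveResolution (R.obj X)).ι.f 0 :=
  (exists_lift (𝟙 _) (augMap R (injectiveResolution X)) (injectiveResolution (R.obj X))).choose_spec.trans
    (Category.id_comp _)

theorem quasiIso_lift (X : C) : QuasiIso (lift R X) := by
  let i := (HomologicalComplex.singleMapHomologicalComplex R (ComplexShape.up ℕ) 0).inv.app X ≫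
    (R.mapHomologicalComplex (ComplexShape.up ℕ)).map (injectiveResolution X).ι
  haveI : QuasiIso i := by dsimp only [i]; infer_instance
  have e : i ≫ lift R X = (injectiveResolution (R.obj X)).ι :=
    HomologicalComplex.from_single_hom_ext (by
      simp only [i, HomologicalComplex.comp_f, Category.assoc, Functor.mapHomologicalComplex_map_f, lift_comm]
      simp [HomologicalComplex.singleMapHomologicalComplex_inv_app_self,
        HomologicalComplex.singleObjXSelf, HomologicalComplex.singleObjXIsoOfEq])
  haveI : QuasiIso (i ≫ lift R X) := by rw [e]; infer_instance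
  exact quasiIso_of_comp_left i (lift R X)

variable [EnoughInjectives D] (G : D ⥤ E) [G.Additive] [PreservesFiniteLimits G]

theorem quasiIso_map_lift (hR : ∀ I : C, Injective I → SpSeqLib.IsSAcyclic G (R.obj I)) (X : C) :
    QuasiIso ((G.mapHomologicalComplex (ComplexShape.up ℕ)).map (lift R X)) := by
  let e := ComplexShape.embeddingUpNat
  let K := (augMap R (injectiveResolution X)).K
  let L := (injectiveResolution (R.obj X)).cocomplex
  haveI := quasiIso_lift R X
  haveI : QuasiIso (HomologicalComplex.extendMap (lift R X) e) :=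
    (HomologicalComplex.quasiIso_extendMap_iff _ e).2 inferInstance
  have hac : ∀ (N : CochainComplex D ℕ), (∀ k, SpSeqLib.IsSAcyclic G (N.X k)) →
      ∀ n, SpSeqLib.IsSAcyclic G ((N.extend e).X n) := fun N hN n => by
    by_cases hn : 0 ≤ n
    · obtain ⟨k, rfl⟩ := Int.eq_ofNat_of_zero_le hn
      exact fun p hp => (hN k p hp).of_iso
        ((SpSeqLib.phiSingle G p).mapIso (N.extendXIso e (i := k) rfl))
    · exact SpSeqLib.isSAcyclic_of_isZero G (CochainComplex.isZero_of_isStrictlyGE _ 0 n (by lia))
  haveI hq := SpSeqLib.quasiIso_map_of_isSAcyclic G (HomologicalComplex.extendMap (lift R X) e) 0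
    (hac K fun k => hR _ ((injectiveResolution X).injective k))
    (hac L fun k => haveI := (injectiveResolution (R.obj X)).injective k; SpSeqLib.isSAcyclic_of_injective G _)
  rw [← HomologicalComplex.quasiIso_extendMap_iff _ e]
  exact (MorphismProperty.arrow_mk_iso_iff (HomologicalComplex.quasiIso E (ComplexShape.up ℤ))
    (Arrow.isoMk (SpSeqLib.mapExtendNatIso G K) (SpSeqLib.mapExtendNatIso G L) (by
      refine HomologicalComplex.hom_ext _ _ fun n => ?_
      by_cases hn : 0 ≤ n
      · have he : e.f n.toNat = n := Int.toNat_of_nonneg hn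
        show (SpSeqLib.mapExtendNatXIso G K n).hom ≫ (HomologicalComplex.extendMap ((G.mapHomologicalComplex
            (ComplexShape.up ℕ)).map (lift R X)) e).f n =
          G.map ((HomologicalComplex.extendMap (lift R X) e).f n) ≫ (SpSeqLib.mapExtendNatXIso G L n).hom
        rw [SpSeqLib.mapExtendNatXIso, SpSeqLib.mapExtendNatXIso, dif_pos hn, dif_pos hn,
          HomologicalComplex.extendMap_f _ e he, HomologicalComplex.extendMap_f _ e he]
        simp only [Iso.trans_hom, Functor.mapIso_hom, Iso.symm_hom, Functor.map_comp, Category.assoc,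
          Functor.mapHomologicalComplex_map_f, Iso.inv_hom_id_assoc, Iso.hom_inv_id_assoc]
        refine Eq.trans (congrArg (G.map (HomologicalComplex.extendXIso K e he).hom ≫ ·) (Iso.inv_hom_id_assoc _ _)) ?_
        refine congrArg (_ ≫ ·) (congrArg (_ ≫ ·) ?_)
        exact (((Category.assoc _ _ _).symm.trans (congrArg (· ≫ _) ((G.map_comp _ _).symm.trans
          ((congrArg G.map (HomologicalComplex.extendXIso L e he).inv_hom_id).trans (G.map_id _))))).trans (Category.id_comp _)).symm
      · exact (IsZero.eq_of_src (G.map_isZero (CochainComplex.isZero_of_isStrictlyGE (K.extend e) 0 n (by lia))) _ _)))).1 ((HomologicalComplex.mem_quasiIso_iff _).2 hq) |> (HomologicalComplex.mem_quasiIso_iff _).1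

/-- Composing with an exact functor taking injectives to acyclic objects. -/
def compIso (hR : ∀ I : C, Injective I → SpSeqLib.IsSAcyclic G (R.obj I)) (n : ℕ) :
    (R ⋙ G).rightDerived n ≅ R ⋙ G.rightDerived n :=
  NatIso.ofComponents
    (fun X => haveI := quasiIso_map_lift R G hR X
      (injectiveResolution X).isoRightDerivedObj (R ⋙ G) n ≪≫
        isoOfQuasiIsoAt ((G.mapHomologicalComplex (ComplexShape.up ℕ)).map (lift R X)) n ≪≫
        ((injectiveResolution (R.obj X)).isoRightDerivedObj G n).symm)
    (fun {X Y} f => by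
      let φ := InjectiveResolution.desc f (injectiveResolution Y) (injectiveResolution X)
      have hφ := InjectiveResolution.desc_commutes_zero f (injectiveResolution Y) (injectiveResolution X)
      let φ' := InjectiveResolution.desc (R.map f) (injectiveResolution (R.obj Y)) (injectiveResolution (R.obj X))
      have hφ' := InjectiveResolution.desc_commutes_zero (R.map f) (injectiveResolution (R.obj Y))
        (injectiveResolution (R.obj X))
      have h₁ := InjectiveResolution.isoRightDerivedObj_hom_naturality f _ _ φ hφ (R ⋙ G) n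
      have h₂ := InjectiveResolution.isoRightDerivedObj_inv_naturality (R.map f) _ _ φ' hφ' G n
      obtain ⟨H⟩ := nonempty_homotopy (augMap R (injectiveResolution X)) (injectiveResolution (R.obj Y))
        ((R.mapHomologicalComplex _).map φ ≫ lift R Y) (lift R X ≫ φ') (by
          show R.map _ ≫ R.map (φ.f 0) ≫ (lift R Y).f 0 = R.map _ ≫ (lift R X).f 0 ≫ φ'.f 0
          rw [← Category.assoc, ← R.map_comp, hφ, R.map_comp, Category.assoc, lift_comm, ← Category.assoc,
            lift_comm, hφ'])
      have h₃ := (G.mapHomotopy H).homologyMap_eq n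
      rw [Functor.map_comp, Functor.map_comp, HomologicalComplex.homologyMap_comp,
        HomologicalComplex.homologyMap_comp] at h₃
      simp only [Iso.trans_hom, Category.assoc, Iso.symm_hom, Functor.comp_map, isoOfQuasiIsoAt_hom]
      rw [← Category.assoc, h₁, Category.assoc]
      refine congrArg (_ ≫ ·) ?_
      refine (Category.assoc _ _ _).symm.trans ((congrArg (· ≫ _) h₃).trans ?_)
      refine (Category.assoc _ _ _).trans (congrArg (_ ≫ ·) ?_)
      exact h₂.symm)

end AcycCompLib
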